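import Mathlib

/-! Intersections of the fields `F((T))`. -/

universe u
set_option autoImplicit false

noncomputable section

namespace Groth.Agent.S4550Aux

open MvPowerSeries

variable {k : Type u} [Field k] {r : ℕ}

/-- series with coefficients in a subfield -/
def coeffSubring (F : Subfield k) : Subring (MvPowerSeries (Fin r) k) where
  carrier := {f | ∀ n, coeff n f ∈ F}
  mul_mem' {f g} hf hg n := by
    classical
    rw [coeff_mul]
    exact sum_mem fun x _ => mul_mem (hf _) (hg _)
  one_mem' n := by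
    classical
    rw [coeff_one]; split_ifs
    · exact one_mem _
    · exact zero_mem _
  add_mem' {f g} hf hg n := by rw [map_add]; exact add_mem (hf n) (hg n)
  zero_mem' n := by rw [map_zero]; exact zero_mem _
  neg_mem' {f} hf n := by rw [map_neg]; exact neg_mem (hf n)

theorem mem_closure_iff (F : Subfield k) (x : FractionRing (MvPowerSeries (Fin r) k)) :
    x ∈ Subfield.closure (algebraMap (MvPowerSeries (Fin r) k) (FractionRing (MvPowerSeries (Fin r) k)) ''
        {f | ∀ n, coeff n f ∈ F}) ↔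
      ∃ a ∈ coeffSubring F, ∃ b ∈ coeffSubring F,
        algebraMap (MvPowerSeries (Fin r) k) _ a / algebraMap (MvPowerSeries (Fin r) k) _ b = x := by
  have h : Subring.closure (algebraMap (MvPowerSeries (Fin r) k)
      (FractionRing (MvPowerSeries (Fin r) k)) '' {f | ∀ n, coeff n f ∈ F}) =
      ((coeffSubring F : Subring (MvPowerSeries (Fin r) k))).map (algebraMap (MvPowerSeries (Fin r) k) (FractionRing (MvPowerSeries (Fin r) k))) := by
    rw [← RingHom.map_closure]
    exact congrArg _ (Subring.closure_eq (coeffSubring F))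
  rw [Subfield.mem_closure_iff, h]
  constructor
  · rintro ⟨y, ⟨a, ha, rfl⟩, z, ⟨b, hb, rfl⟩, rfl⟩; exact ⟨a, ha, b, hb, rfl⟩
  · rintro ⟨a, ha, b, hb, rfl⟩; exact ⟨_, ⟨a, ha, rfl⟩, _, ⟨b, hb, rfl⟩, rfl⟩

/-- If `g b = a` with `a, b` over `F` and `b ≠ 0` then `g` is over `F`. -/
theorem mem_of_mul_mem (F : Subfield k) {g b : MvPowerSeries (Fin r) k} (hb : b ∈ coeffSubring F)
    (hab : g * b ∈ coeffSubring F) (hb0 : b ≠ 0) : g ∈ coeffSubring F := by
  classical
  obtain ⟨π, hπ⟩ := LinearMap.exists_leftInverse_of_injective (Algebra.linearMap F k)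
    (LinearMap.ker_eq_bot.mpr (algebraMap F k).injective)
  have hπ' : ∀ c : F, π (c : k) = c := fun c => LinearMap.congr_fun hπ c
  let g' : MvPowerSeries (Fin r) k := fun n => ((π (coeff n g) : F) : k)
  have hg' : ∀ n, coeff n g' = ((π (coeff n g) : F) : k) := fun n => rfl
  suffices g' = g from fun n => by rw [← this, hg']; exact (π _).2
  refine mul_right_cancel₀ hb0 (MvPowerSeries.ext fun n => ?_)
  rw [show coeff n (g * b) = ((π (coeff n (g * b)) : F) : k) from
    (congrArg Subtype.val (hπ' ⟨_, hab n⟩)).symm, coeff_mul, coeff_mul, map_sum]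
  rw [AddSubmonoidClass.coe_finsetSum]
  refine Finset.sum_congr rfl fun x _ => ?_
  have : coeff x.1 g * coeff x.2 b = (⟨coeff x.2 b, hb _⟩ : F) • coeff x.1 g := mul_comm _ _
  rw [this, map_smul, hg']
  exact mul_comm _ _

theorem pow_mem (p : ℕ) [ExpChar k p] (F : Subfield k) (e : ℕ) (hq : ∀ x : k, x ^ p ^ e ∈ F)
    (f : MvPowerSeries (Fin r) k) : f ^ p ^ e ∈ coeffSubring F := by
  intro n
  rw [← map_iterateFrobenius_expand p (expChar_ne_zero k p) f e, coeff_map, iterateFrobenius_def]
  exact hq _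

theorem iInf_eq {ι : Type u} [Nonempty ι] (F : ι → Subfield k) (p : ℕ) [ExpChar k p] (e : ℕ)
    (hq : ∀ x : k, x ^ p ^ e ∈ ⨅ i, F i) :
    (⨅ i, Subfield.closure (algebraMap (MvPowerSeries (Fin r) k) (FractionRing (MvPowerSeries (Fin r) k)) ''
        {f | ∀ n, coeff n f ∈ F i})) =
      Subfield.closure (algebraMap (MvPowerSeries (Fin r) k) (FractionRing (MvPowerSeries (Fin r) k)) ''
        {f | ∀ n, coeff n f ∈ ⨅ i, F i}) := by
  refine le_antisymm (fun x hx => ?_) (le_iInf fun i => Subfield.closure_mono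
    (Set.image_mono fun f hf n => (iInf_le F i) (hf n)))
  obtain ⟨g, h, hh, rfl⟩ := IsFractionRing.div_surjective (MvPowerSeries (Fin r) k) x
  have hh0 : h ≠ 0 := nonZeroDivisors.ne_zero hh
  have hpos : 1 ≤ p ^ e := Nat.one_le_pow _ _ (expChar_pos k p)
  let H := h ^ p ^ e
  let G := g * h ^ (p ^ e - 1)
  have hH0 : H ≠ 0 := pow_ne_zero _ hh0
  have hq' : h * h ^ (p ^ e - 1) = H := by rw [← pow_succ', Nat.sub_add_cancel hpos]
  have hxG : algebraMap (MvPowerSeries (Fin r) k) (FractionRing (MvPowerSeries (Fin r) k)) g /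
      algebraMap _ _ h = algebraMap _ _ G / algebraMap _ _ H := by
    simp only [G]
    rw [← hq', map_mul, map_mul, mul_div_mul_right]
    exact (map_ne_zero_iff _ (IsFractionRing.injective _ _)).mpr (pow_ne_zero _ hh0)
  rw [hxG] at hx ⊢
  have hH : H ∈ coeffSubring (⨅ i, F i) := pow_mem p _ e hq h
  refine (mem_closure_iff _ _).mpr ⟨G, fun n => ?_, H, hH, rfl⟩
  rw [Subfield.mem_iInf]
  intro i
  obtain ⟨a, ha, b, hb, hab⟩ := (mem_closure_iff _ _).mp (Subfield.mem_iInf.mp hx i)
  have hHi : H ∈ coeffSubring (F i) := fun m => (iInf_le F i) (hH m)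
  have inj := IsFractionRing.injective (MvPowerSeries (Fin r) k) (FractionRing (MvPowerSeries (Fin r) k))
  by_cases hb0 : b = 0
  · have : G = 0 := by
      have h0 := hab
      rw [hb0, map_zero, div_zero, eq_comm, div_eq_zero_iff] at h0
      rcases h0 with h0 | h0
      · exact inj (h0.trans (map_zero _).symm)
      · exact absurd (inj (h0.trans (map_zero _).symm)) hH0
    rw [this, map_zero]; exact zero_mem _
  · rw [div_eq_div_iff ((map_ne_zero_iff _ inj).mpr hb0) ((map_ne_zero_iff _ inj).mpr hH0),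
      ← map_mul, ← map_mul] at hab
    refine mem_of_mul_mem (F i) hb ?_ hb0 n
    rw [← inj hab]
    exact mul_mem ha hHi

end Groth.Agent.S4550Aux
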